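import Mathlib
import Groth.Prelude.Def_KoszulSh

/-!
# Exactness of the Koszul complex of a regular sequence on exterior powers
-/

set_option linter.style.haveILetI false

namespace Groth.Agent.H1KoszExt

open ExteriorAlgebra CliffordAlgebra

variable {R : Type*} [CommRing R] {M : Type*} [AddCommGroup M] [Module R M]

/-- The contraction with a linear form. -/
noncomputable abbrev d (φ : M →ₗ[R] R) : ExteriorAlgebra R M →ₗ[R] ExteriorAlgebra R M :=
  CliffordAlgebra.contractLeft φ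

lemma d_ι_mul (φ : M →ₗ[R] R) (x : M) (w : ExteriorAlgebra R M) :
    d φ (ι R x * w) = φ x • w - ι R x * d φ w :=
  CliffordAlgebra.contractLeft_ι_mul φ x w

lemma d_one (φ : M →ₗ[R] R) : d φ (1 : ExteriorAlgebra R M) = 0 :=
  CliffordAlgebra.contractLeft_one (Q := (0 : QuadraticForm R M)) φ

/-- The contraction of a decomposable element is the Koszul boundary. -/
lemma d_ιMulti (φ : M →ₗ[R] R) : ∀ (p : ℕ) (e : Fin (p + 1) → M),
    d φ (ExteriorAlgebra.ιMulti R (p + 1) e) = (KoszSh.dGen φ p e : ExteriorAlgebra R M)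
  | 0, e => by
    rw [ExteriorAlgebra.ιMulti_succ_apply, d_ι_mul, ExteriorAlgebra.ιMulti_zero_apply, d_one,
      mul_zero, sub_zero]
    simp [KoszSh.dGen, exteriorPower.ιMulti_apply_coe, ExteriorAlgebra.ιMulti_zero_apply]
  | p + 1, e => by
    rw [ExteriorAlgebra.ιMulti_succ_apply, d_ι_mul, d_ιMulti φ p (Matrix.vecTail e)]
    have hcoe : ∀ (q : ℕ) (f : Fin (q + 1) → M), (KoszSh.dGen φ q f : ExteriorAlgebra R M) =
        ∑ i : Fin (q + 1), ((-1 : R) ^ (i : ℕ) * φ (f i)) •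
          ExteriorAlgebra.ιMulti R q (fun j => f (i.succAbove j)) := fun q f => by
      rw [KoszSh.dGen, Submodule.coe_sum]
      rfl
    rw [hcoe, hcoe, Finset.mul_sum, Fin.sum_univ_succ (n := p + 1)]
    simp only [Fin.val_zero, pow_zero, one_mul, Fin.succAbove_zero]
    rw [sub_eq_add_neg]
    refine congrArg₂ (· + ·) rfl ?_
    rw [← Finset.sum_neg_distrib]
    refine Finset.sum_congr rfl fun i _ => ?_
    rw [mul_smul_comm, ← neg_smul, Fin.val_succ, pow_succ, mul_neg_one, neg_mul,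
      ExteriorAlgebra.ιMulti_succ_apply]
    simp [Matrix.vecTail, Function.comp_def]

variable {n : ℕ} (b : Module.Basis (Fin n) R M)

/-- The `k`-th basis vector, or zero. -/
noncomputable def vec (k : ℕ) : M := if h : k < n then b ⟨k, h⟩ else 0

/-- Degree `q` elements in the first `k` basis vectors. -/
noncomputable def W : ℕ → ℕ → Submodule R (ExteriorAlgebra R M)
  | 0, 0 => R ∙ 1
  | 0, _ + 1 => ⊥
  | k + 1, 0 => W k 0
  | k + 1, q + 1 => W k (q + 1) ⊔ (W k q).map (LinearMap.mulLeft R (ι R (vec b k)))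

lemma W_zero : ∀ k, W b k 0 = R ∙ 1
  | 0 => rfl
  | k + 1 => W_zero k

lemma mem_W_succ {k q : ℕ} {x : ExteriorAlgebra R M} :
    x ∈ W b (k + 1) (q + 1) ↔
      ∃ α ∈ W b k (q + 1), ∃ β ∈ W b k q, α + ι R (vec b k) * β = x := by
  rw [W, Submodule.mem_sup]
  constructor
  · rintro ⟨α, hα, _, ⟨β, hβ, rfl⟩, rfl⟩
    exact ⟨α, hα, β, hβ, rfl⟩
  · rintro ⟨α, hα, β, hβ, rfl⟩
    exact ⟨α, hα, _, ⟨β, hβ, rfl⟩, rfl⟩

lemma W_mono {k q : ℕ} : W b k q ≤ W b (k + 1) q := by
  cases q with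
  | zero => exact le_rfl
  | succ q => exact le_sup_left

lemma mul_mem_W : ∀ (k q : ℕ) (j : ℕ), j < k → ∀ w ∈ W b k q,
    ι R (vec b j) * w ∈ W b k (q + 1)
  | k + 1, 0, j, hj, w, hw => by
    rw [W_zero] at hw
    obtain ⟨c, rfl⟩ := Submodule.mem_span_singleton.1 hw
    rw [mul_smul_comm]
    refine Submodule.smul_mem _ c ?_
    rcases Nat.lt_succ_iff_lt_or_eq.1 hj with h | rfl
    · exact W_mono b (mul_mem_W k 0 j h 1 (by rw [W_zero]; exact Submodule.mem_span_singleton_self 1))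
    · exact (mem_W_succ b).2 ⟨0, zero_mem _, 1,
        by rw [W_zero]; exact Submodule.mem_span_singleton_self 1, by rw [zero_add]⟩
  | k + 1, q + 1, j, hj, w, hw => by
    obtain ⟨α, hα, β, hβ, rfl⟩ := (mem_W_succ b).1 hw
    rw [mul_add]
    rcases Nat.lt_succ_iff_lt_or_eq.1 hj with h | rfl
    · refine add_mem (W_mono b (mul_mem_W k (q + 1) j h α hα)) ?_
      have e : ι R (vec b j) * (ι R (vec b k) * β) = ι R (vec b k) * (-(ι R (vec b j) * β)) := by
        rw [← mul_assoc, mul_neg, ← mul_assoc, ← neg_mul,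
          eq_neg_of_add_eq_zero_left (ι_add_mul_swap (vec b j) (vec b k))]
      rw [e]
      exact (mem_W_succ b).2 ⟨0, zero_mem _, _, neg_mem (mul_mem_W k q j h β hβ), by rw [zero_add]⟩
    · rw [← mul_assoc, ExteriorAlgebra.ι_sq_zero, zero_mul, add_zero]
      exact (mem_W_succ b).2 ⟨0, zero_mem _, α, hα, by rw [zero_add]⟩

lemma ιMulti_mem_W : ∀ (q : ℕ) (e : Fin q → M), ExteriorAlgebra.ιMulti R q e ∈ W b n q
  | 0, e => by
    rw [ExteriorAlgebra.ιMulti_zero_apply, W_zero]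
    exact Submodule.mem_span_singleton_self _
  | q + 1, e => by
    rw [ExteriorAlgebra.ιMulti_succ_apply]
    have h := ιMulti_mem_W q (Matrix.vecTail e)
    rw [← b.sum_repr (e 0), map_sum, Finset.sum_mul]
    refine sum_mem fun i _ => ?_
    rw [map_smul, smul_mul_assoc]
    refine Submodule.smul_mem _ _ ?_
    have := mul_mem_W b n q i i.2 _ h
    rwa [vec, dif_pos i.2] at this

lemma exteriorPower_le_W (q : ℕ) : ⋀[R]^q M ≤ W b n q := by
  rw [← ιMulti_span_fixedDegree, Submodule.span_le]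
  rintro _ ⟨e, rfl⟩
  exact ιMulti_mem_W b q e

lemma W_le_exteriorPower : ∀ (k q : ℕ), W b k q ≤ ⋀[R]^q M
  | 0, 0 => by
    rw [W, Submodule.span_le, Set.singleton_subset_iff, exteriorPower, pow_zero]
    exact Submodule.one_le.1 le_rfl
  | 0, q + 1 => bot_le
  | k + 1, 0 => W_le_exteriorPower k 0
  | k + 1, q + 1 => by
    refine sup_le (W_le_exteriorPower k (q + 1)) ?_
    rintro _ ⟨β, hβ, rfl⟩
    rw [exteriorPower, pow_succ']
    exact Submodule.mul_mem_mul ⟨_, rfl⟩ (W_le_exteriorPower k q hβ)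

/-- A form killing the first `k` basis vectors kills `W k q`. -/
lemma d_eq_zero_of_W (ψ : M →ₗ[R] R) : ∀ (k q : ℕ), (∀ j < k, ψ (vec b j) = 0) →
    ∀ w ∈ W b k q, d ψ w = 0
  | k, 0, _, w, hw => by
    rw [W_zero] at hw
    obtain ⟨c, rfl⟩ := Submodule.mem_span_singleton.1 hw
    rw [map_smul, d_one, smul_zero]
  | 0, q + 1, _, w, hw => by
    rw [(Submodule.mem_bot R).1 hw, map_zero]
  | k + 1, q + 1, h, w, hw => by
    obtain ⟨α, hα, β, hβ, rfl⟩ := (mem_W_succ b).1 hw
    have h' : ∀ j < k, ψ (vec b j) = 0 := fun j hj => h j (by omega)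
    rw [map_add, d_ι_mul, d_eq_zero_of_W ψ k (q + 1) h' α hα, d_eq_zero_of_W ψ k q h' β hβ,
      h k (by omega)]
    simp

lemma d_mem_W (φ : M →ₗ[R] R) : ∀ (k q : ℕ), ∀ w ∈ W b k (q + 1), d φ w ∈ W b k q
  | 0, q, w, hw => by
    rw [(Submodule.mem_bot R).1 hw, map_zero]
    exact zero_mem _
  | k + 1, q, w, hw => by
    obtain ⟨α, hα, β, hβ, rfl⟩ := (mem_W_succ b).1 hw
    rw [map_add, d_ι_mul]
    refine add_mem (W_mono b (d_mem_W φ k q α hα)) (sub_mem (Submodule.smul_mem _ _ (W_mono b hβ)) ?_)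
    cases q with
    | zero =>
      rw [W_zero] at hβ
      obtain ⟨c, rfl⟩ := Submodule.mem_span_singleton.1 hβ
      rw [map_smul, d_one, smul_zero, mul_zero]
      exact zero_mem _
    | succ q => exact (mem_W_succ b).2 ⟨0, zero_mem _, _, d_mem_W φ k q β hβ, by rw [zero_add]⟩

/-- The ideal generated by the values on the first `k` basis vectors. -/
noncomputable def idl (φ : M →ₗ[R] R) (k : ℕ) : Ideal R :=
  Ideal.span ((fun j => φ (vec b j)) '' {j | j < k})

lemma d_W_one (φ : M →ₗ[R] R) : ∀ (k : ℕ), ∀ w ∈ W b k 1,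
    ∃ c ∈ idl b φ k, d φ w = c • (1 : ExteriorAlgebra R M)
  | 0, w, hw => ⟨0, zero_mem _, by rw [(Submodule.mem_bot R).1 hw, map_zero, zero_smul]⟩
  | k + 1, w, hw => by
    obtain ⟨α, hα, β, hβ, rfl⟩ := (mem_W_succ b).1 hw
    obtain ⟨c, hc, hd⟩ := d_W_one φ k α hα
    rw [W_zero] at hβ
    obtain ⟨a, rfl⟩ := Submodule.mem_span_singleton.1 hβ
    refine ⟨c + φ (vec b k) * a, Ideal.add_mem _ (Ideal.span_mono (Set.image_mono fun j hj => ?_) hc)
      (Ideal.mul_mem_right _ _ (Ideal.subset_span ⟨k, Nat.lt_succ_self k, rfl⟩)), ?_⟩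
    · exact Nat.lt_succ_of_lt hj
    · rw [map_add, hd, d_ι_mul, map_smul, d_one, smul_zero, mul_zero, sub_zero, add_smul, mul_smul]

lemma exists_of_mem_idl (φ : M →ₗ[R] R) (k : ℕ) {c : R} (hc : c ∈ idl b φ k) :
    ∃ w ∈ W b k 1, d φ w = c • (1 : ExteriorAlgebra R M) := by
  refine Submodule.span_induction (p := fun c _ => ∃ w ∈ W b k 1, d φ w = c • (1 : ExteriorAlgebra R M))
    ?_ ?_ ?_ ?_ hc
  · rintro _ ⟨j, hj, rfl⟩
    refine ⟨ι R (vec b j) * 1, mul_mem_W b k 0 j hj 1 ?_, ?_⟩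
    · rw [W_zero]; exact Submodule.mem_span_singleton_self 1
    · rw [d_ι_mul, d_one, mul_zero, sub_zero]
  · exact ⟨0, zero_mem _, by rw [map_zero, zero_smul]⟩
  · rintro x y _ _ ⟨w, hw, e⟩ ⟨w', hw', e'⟩
    exact ⟨w + w', add_mem hw hw', by rw [map_add, e, e', add_smul]⟩
  · rintro a x _ ⟨w, hw, e⟩
    exact ⟨a • w, Submodule.smul_mem _ a hw, by rw [map_smul, e, smul_eq_mul, mul_smul]⟩

/-- Exactness on the first `k` basis vectors. -/
lemma exact_W (φ : M →ₗ[R] R)
    (hreg : ∀ k, k < n → ∀ c : R, c * φ (vec b k) ∈ idl b φ k → c ∈ idl b φ k) :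
    ∀ (k : ℕ), k ≤ n → ∀ (q : ℕ), ∀ w ∈ W b k (q + 1), d φ w = 0 →
      ∃ η ∈ W b k (q + 2), d φ η = w
  | 0, _, q, w, hw, _ => ⟨0, zero_mem _, by rw [(Submodule.mem_bot R).1 hw, map_zero]⟩
  | k + 1, hk, q, w, hw, hd => by
    have ih := exact_W φ hreg k (by omega)
    obtain ⟨α, hα, β, hβ, rfl⟩ := (mem_W_succ b).1 hw
    let ψ : M →ₗ[R] R := b.coord ⟨k, by omega⟩
    have hψk : ψ (vec b k) = 1 := by
      rw [vec, dif_pos (show k < n by omega)]
      simp [ψ]
    have hψ : ∀ j < k, ψ (vec b j) = 0 := fun j hj => by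
      rw [vec, dif_pos (show j < n by omega)]
      simp only [ψ, Module.Basis.coord_apply, Module.Basis.repr_self, Finsupp.single_apply]
      exact if_neg fun h => by simp at h; omega
    rw [map_add, d_ι_mul] at hd
    have hdβ : d φ β = 0 := by
      cases q with
      | zero =>
        rw [W_zero] at hβ
        obtain ⟨c, rfl⟩ := Submodule.mem_span_singleton.1 hβ
        rw [map_smul, d_one, smul_zero]
      | succ q =>
        have := congrArg (d ψ) hd
        rw [map_add, map_sub, d_ι_mul, map_smul, d_eq_zero_of_W b ψ k _ hψ β hβ,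
          d_eq_zero_of_W b ψ k _ hψ _ (d_mem_W b φ k _ α hα),
          d_eq_zero_of_W b ψ k _ hψ _ (d_mem_W b φ k _ β hβ), hψk] at this
        simpa using this
    rw [hdβ, mul_zero, sub_zero] at hd
    obtain ⟨γ, hγ, hγd⟩ : ∃ γ ∈ W b k (q + 1), d φ γ = β := by
      cases q with
      | zero =>
        rw [W_zero] at hβ
        obtain ⟨c, rfl⟩ := Submodule.mem_span_singleton.1 hβ
        obtain ⟨a, ha, hda⟩ := d_W_one b φ k α hα
        rw [hda, smul_smul, ← add_smul] at hd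
        have h0 : a + φ (vec b k) * c = 0 := by
          have := congrArg ExteriorAlgebra.algebraMapInv hd
          simpa using this
        refine exists_of_mem_idl b φ k (hreg k (by omega) c ?_)
        rw [mul_comm, eq_neg_of_add_eq_zero_right h0]
        exact neg_mem ha
      | succ q => exact ih q β hβ hdβ
    obtain ⟨δ, hδ, hδd⟩ := ih q (α + φ (vec b k) • γ) (add_mem hα (Submodule.smul_mem _ _ hγ))
      (by rw [map_add, map_smul, hγd]; exact hd)
    refine ⟨δ - ι R (vec b k) * γ, sub_mem (W_mono b hδ) ((mem_W_succ b).2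
      ⟨0, zero_mem _, γ, hγ, by rw [zero_add]⟩), ?_⟩
    rw [map_sub, hδd, d_ι_mul, hγd]
    abel

open RingTheory.Sequence in
/-- The Koszul complex of a regular sequence on exterior powers is exact in positive degrees. -/
theorem exact_exteriorPower (φ : M →ₗ[R] R)
    (hreg : IsWeaklyRegular R (List.ofFn fun i => φ (b i))) (q : ℕ) (w : ExteriorAlgebra R M)
    (hw : w ∈ ⋀[R]^(q + 1) M) (hd : d φ w = 0) :
    ∃ η ∈ ⋀[R]^(q + 2) M, d φ η = w := by
  have hreg' : ∀ k, k < n → ∀ c : R, c * φ (vec b k) ∈ idl b φ k → c ∈ idl b φ k := by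
    intro k hk c hc
    have hidl : idl b φ k = Ideal.ofList ((List.ofFn fun i => φ (b i)).take k) := by
      refine congrArg Ideal.span (Set.ext fun x => ?_)
      simp only [Set.mem_image, Set.mem_ofPred_eq, List.mem_take_iff_getElem, List.getElem_ofFn]
      constructor
      · rintro ⟨j, hj, rfl⟩
        refine ⟨j, by rw [List.length_ofFn]; omega, ?_⟩
        rw [vec, dif_pos (show j < n by omega)]
      · rintro ⟨j, hj, rfl⟩
        rw [List.length_ofFn] at hj
        refine ⟨j, by omega, ?_⟩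
        rw [vec, dif_pos (show j < n by omega)]
    have h := (isWeaklyRegular_iff R _).1 hreg k (by rwa [List.length_ofFn])
    rw [List.getElem_ofFn] at h
    rw [hidl] at hc ⊢
    rw [vec, dif_pos hk, mul_comm] at hc
    have h2 : (Submodule.Quotient.mk c : R ⧸ (Ideal.ofList ((List.ofFn fun i => φ (b i)).take k) • ⊤ : Submodule R R)) = 0 := by
      refine h.right_eq_zero_of_smul ?_
      rw [← Submodule.Quotient.mk_smul, Submodule.Quotient.mk_eq_zero]
      simpa using hc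
    rw [Submodule.Quotient.mk_eq_zero] at h2
    simpa using h2
  obtain ⟨η, hη, h⟩ := exact_W b φ hreg' n le_rfl q w (exteriorPower_le_W b (q + 1) hw) hd
  exact ⟨η, W_le_exteriorPower b n (q + 2) hη, h⟩

end Groth.Agent.H1KoszExt
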